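import Cfsg.Agent.TwoSubgroup16.Thompson
import Cfsg.Agent.PushingUp44.Quad
import Cfsg.Agent.LocalP.Basic

/-!
The Baumann subgroup `B = B(T)` is a Sylow subgroup of its normal closure `L`, and `C_L(O_p(L)) ≤ O_p(L)`.
-/

set_option autoImplicit false

open Cfsg
open CfsgLib.ConjFunctor (conjOf conjOf_conjOf conjOf_one card_conjOf conjOf_mono conj_mem_conjOf mem_normalizer_iff_conjOf conjOf_le_iff mem_conjOf)
open CfsgLib.LocalP (maxElemIn)
open scoped commutatorElement

namespace CfsgLib.TwoSubgroup16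

variable {X : Type*} [Group X] {p : ℕ}

/-- `L`, the normal closure of `B(T)`. -/
def lMod (p : ℕ) (T : Subgroup X) : Subgroup X := Subgroup.normalClosure (baumannSubgroupOf p T : Set X)

instance lMod_normal (p : ℕ) (T : Subgroup X) : (lMod p T).Normal := Subgroup.normalClosure_normal

theorem baumann_le_lMod (T : Subgroup X) : baumannSubgroupOf p T ≤ lMod p T := Subgroup.le_normalClosure

variable [Finite X] [Fact p.Prime] {T : Sylow p X} {M : Subgroup X}
  {r : ℕ} {E N : Fin r → Subgroup X}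

namespace Core

variable (h : Core p T M) (D : Blocks p (vMod p (T : Subgroup X)) (T : Subgroup X) E N)

include h D

theorem mem_UU_iff {x : X} : x ∈ UU (T : Subgroup X) E ↔ x ∈ (T : Subgroup X) ∧ x ∈ ⨆ i, E i := by
  rw [← D.inf_iSup_E, Subgroup.mem_inf]

theorem thompson_le_UU : thompsonSubgroupOf p (T : Subgroup X) ≤ UU (T : Subgroup X) E := by
  rw [CfsgLib.LocalP.thompsonSubgroupOf_eq_sSup]
  exact sSup_le fun A hA =>
    (D.offender_structure hA.1 (CfsgLib.LocalP.isElementaryAbelian_iff.mp hA.2.1).1 (h.card_le_of_maxElemIn hA)).2.1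

theorem pCore_le_E (i : Fin r) : pCore p X ≤ E i := h.pCore_le_centralizer_vMod.trans (D.C_le i)

theorem UU_eq : UU (T : Subgroup X) E = thompsonSubgroupOf p (T : Subgroup X) ⊔ pCore p X := by
  haveI := CfsgLib.ConjFunctor.pCore_normal (G := X) p
  refine le_antisymm (iSup_le ?_) (sup_le (h.thompson_le_UU D) ?_)
  · set S := thompsonSubgroupOf p (T : Subgroup X) ⊔ pCore p X
    have hone : ∃ i, (T : Subgroup X) ⊓ E i ≤ S := by
      obtain ⟨A, hA, hAQ⟩ := h.exists_offender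
      obtain ⟨-, -, hsur⟩ := D.offender_structure hA.1 (CfsgLib.LocalP.isElementaryAbelian_iff.mp hA.2.1).1
        (h.card_le_of_maxElemIn hA)
      by_contra hcon
      push Not at hcon
      refine hAQ fun a ha => h.inf_centralizer_vMod.le ⟨hA.1 ha, D.faith a (hA.1 ha) fun i => ?_⟩
      rcases hsur i with h1 | h1
      · exact h1 ha
      · exfalso
        refine hcon i (h1.trans (sup_le_sup (le_thompson hA) ?_))
        exact h.inf_centralizer_vMod.le
    obtain ⟨i, hi⟩ := hone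
    intro j
    obtain ⟨t, ht, hE, -⟩ := D.trans i j
    intro x hx
    have h1 : t⁻¹ * x * t ∈ (T : Subgroup X) ⊓ E i := by
      refine Subgroup.mem_inf.mpr ⟨mul_mem (mul_mem (inv_mem ht) hx.1) ht, ?_⟩
      have h2 : x ∈ conjOf t (E i) := hE.ge hx.2
      exact mem_conjOf.mp h2
    have h3 : t * (t⁻¹ * x * t) * t⁻¹ ∈ conjOf t S := conj_mem_conjOf (hi h1)
    have h4 : conjOf t S = S := by
      have hJ := mem_normalizer_iff_conjOf.mp (normalizer_le_thompson_normalizer (p := p) (T : Subgroup X) ht)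
      have hQ : conjOf t (pCore p X) = pCore p X :=
        mem_normalizer_iff_conjOf.mp (by rw [Subgroup.normalizer_eq_top]; trivial)
      show Subgroup.map _ (_ ⊔ _) = _
      rw [Subgroup.map_sup]
      exact congrArg₂ (· ⊔ ·) hJ hQ
    rw [h4] at h3
    simpa [mul_assoc] using h3
  · exact (le_inf h.pCore_le_T h.pCore_le_centralizer_vMod).trans D.T_inf_C_le_UU

theorem thompson_not_le' : ¬ UU (T : Subgroup X) E ≤ pCore p X := fun hle =>
  h.thompson_not_le ((h.thompson_le_UU D).trans hle)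

theorem thompson_centralizes : thompsonSubgroupOf p (T : Subgroup X) ≤ baumannSubgroupOf p (T : Subgroup X) :=
  CfsgLib.BaumannBlock.thompsonSubgroupOf_le_baumann _

theorem wMod_eq : wMod p (T : Subgroup X) = vMod p (T : Subgroup X) ⊔ zThompson p (T : Subgroup X) := by
  set V := vMod p (T : Subgroup X)
  set W := wMod p (T : Subgroup X)
  set Z := zThompson p (T : Subgroup X)
  have hW := h.wMod_el D
  refine le_antisymm ?_ (sup_le h.vMod_le_wMod Subgroup.le_normalClosure)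
  set K := trivMod W V
  have hJK : thompsonSubgroupOf p (T : Subgroup X) ≤ K := by
    rw [CfsgLib.LocalP.thompsonSubgroupOf_eq_sSup]
    refine sSup_le fun A hA a ha => mem_trivMod.mpr fun w hw => ?_
    have hw' := h.wMod_le_sup D hA hw
    rw [← SetLike.mem_coe, Subgroup.normal_mul] at hw'
    obtain ⟨v, hv, c, hc, rfl⟩ := hw'
    have hca := (CfsgLib.LocalP.isElementaryAbelian_iff.mp hA.2.1).1 a ha c hc.2
    have e : a * (v * c) * a⁻¹ * (v * c)⁻¹ = (a * v * a⁻¹) * v⁻¹ := by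
      calc a * (v * c) * a⁻¹ * (v * c)⁻¹ = a * v * a⁻¹ * (a * c * a⁻¹) * c⁻¹ * v⁻¹ := by group
        _ = _ := by rw [hca]; group
    rw [e]
    exact mul_mem (Subgroup.Normal.conj_mem inferInstance v hv a) (inv_mem hv)
  have htop : K ⊔ (T : Subgroup X) = ⊤ := h.sup_T_eq_top fun hle =>
    h.thompson_not_le ((le_inf (CfsgLib.LocalP.thompsonSubgroupOf_le _) hJK).trans hle)
  haveI hn : (V ⊔ Z).Normal := by
    refine Subgroup.normalizer_eq_top_iff.mp (top_le_iff.mp (htop.ge.trans (sup_le ?_ ?_)))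
    · intro g hg
      refine mem_normalizer_iff_conjOf.mpr (Subgroup.eq_of_le_of_card_ge ?_ (card_conjOf _ _).ge)
      show Subgroup.map _ (V ⊔ Z) ≤ _
      rw [Subgroup.map_sup]
      refine sup_le ((conjOf_le_iff.mpr fun v hv => Subgroup.Normal.conj_mem inferInstance v hv g).trans le_sup_left)
        (conjOf_le_iff.mpr fun z hz => ?_)
      have h1 := mem_trivMod.mp hg z (Subgroup.le_normalClosure hz)
      have h2 := mul_mem (Subgroup.mem_sup_left (T := Z) h1) (Subgroup.mem_sup_right (S := V) hz)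
      simpa using h2
    · intro t ht
      refine mem_normalizer_iff_conjOf.mpr (Subgroup.eq_of_le_of_card_ge ?_ (card_conjOf _ _).ge)
      show Subgroup.map _ (V ⊔ Z) ≤ _
      rw [Subgroup.map_sup]
      refine sup_le ((conjOf_le_iff.mpr fun v hv => Subgroup.Normal.conj_mem inferInstance v hv t).trans le_sup_left)
        (le_trans ?_ le_sup_right)
      exact ((charIn_recipe (T : Subgroup X) (fun _ _ P => zThompson p P) fun _ _ _ _ f hf P => by
        rw [zThompson, zThompson, centerThompsonOf_map f hf, omegaOne_map f hf]).normalizer_le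
          (Subgroup.le_normalizer ht) |> mem_normalizer_iff_conjOf.mp).le
  exact Subgroup.normalClosure_le_normal (le_sup_right (a := V))

/-- `J(T)` acts trivially on `W` modulo the sum of the blocks. -/
theorem thompson_le_trivMod :
    haveI := D.iSup_normal.2
    thompsonSubgroupOf p (T : Subgroup X) ≤ trivMod (wMod p (T : Subgroup X)) (⨆ i, N i) := by
  haveI := D.iSup_normal.2
  haveI := D.Vel.1
  rw [CfsgLib.LocalP.thompsonSubgroupOf_eq_sSup]
  refine sSup_le fun A hA a ha => mem_trivMod.mpr fun w hw => ?_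
  have hw' := h.wMod_le_sup D hA hw
  rw [← SetLike.mem_coe, Subgroup.normal_mul] at hw'
  obtain ⟨v, hv, c, hc, rfl⟩ := hw'
  have hca := (CfsgLib.LocalP.isElementaryAbelian_iff.mp hA.2.1).1 a ha c hc.2
  have e : a * (v * c) * a⁻¹ * (v * c)⁻¹ = (a * v * a⁻¹) * v⁻¹ := by
    calc a * (v * c) * a⁻¹ * (v * c)⁻¹ = a * v * a⁻¹ * (a * c * a⁻¹) * c⁻¹ * v⁻¹ := by group
      _ = _ := by rw [hca]; group
  rw [e]
  have hv' : v ∈ (vMod p (T : Subgroup X) ⊓ Subgroup.centralizer ((⨆ i, E i : Subgroup X) : Set X)) ⊔ (⨆ i, N i) :=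
    D.gen.ge hv
  obtain ⟨c₀, hc₀, n, hn, rfl⟩ := CfsgLib.MinParFF.exists_mul_of_mem_sup (V := vMod p (T : Subgroup X))
    inf_le_left (iSup_le D.N_le) hv'
  have haE : a ∈ ⨆ i, E i := ((h.mem_UU_iff D).mp (h.thompson_le_UU D (le_thompson hA ha))).2
  have h1 := Subgroup.mem_centralizer_iff.mp hc₀.2 a haE
  have e2 : a * (c₀ * n) * a⁻¹ * (c₀ * n)⁻¹ = c₀ * ((a * n * a⁻¹) * n⁻¹) * c₀⁻¹ := by
    calc a * (c₀ * n) * a⁻¹ * (c₀ * n)⁻¹ = (a * c₀) * n * a⁻¹ * n⁻¹ * c₀⁻¹ := by group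
      _ = _ := by rw [h1]; group
  rw [e2]
  exact Subgroup.Normal.conj_mem inferInstance _ (mul_mem (Subgroup.Normal.conj_mem inferInstance n hn a) (inv_mem hn)) c₀

theorem baumann_le_UU : baumannSubgroupOf p (T : Subgroup X) ≤ UU (T : Subgroup X) E := by
  intro b hb
  obtain ⟨hbT, hbZ⟩ := mem_baumann_iff.mp hb
  refine D.mem_UU_of_fixes hbT fun i x hx hxU => ?_
  have hxV := D.N_le i hx
  have hxc : x ∈ Subgroup.centralizer (UU (T : Subgroup X) E : Set X) := by
    refine Subgroup.mem_centralizer_iff.mpr fun u hu => ?_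
    refine Subgroup.mem_centralizer_singleton_iff.mp ((iSup_le fun j y hy => ?_ : UU (T : Subgroup X) E ≤
      Subgroup.centralizer ({x} : Set X)) hu)
    rw [Subgroup.mem_centralizer_singleton_iff]
    by_cases hji : j = i
    · subst hji; exact hxU y hy
    · exact (Subgroup.mem_centralizer_iff.mp (D.cross i j (Ne.symm hji) hy.2) x hx).symm
  exact (hbZ x (h.mem_zThompson_of_centralizes (h.vMod_le_T hxV) (h.mem_vMod hxV).2.2
    (Subgroup.centralizer_le (h.thompson_le_UU D) hxc))).symm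

theorem baumann_inf_pCore :
    baumannSubgroupOf p (T : Subgroup X) ⊓ pCore p X =
      pCore p X ⊓ Subgroup.centralizer (wMod p (T : Subgroup X) : Set X) := by
  refine le_antisymm ?_ ?_
  · rintro b ⟨hbB, hbQ⟩
    refine ⟨hbQ, ?_⟩
    rw [h.wMod_eq D]
    refine (Subgroup.le_centralizer_iff.mp (sup_le ?_ ?_) : Subgroup.zpowers b ≤ _) (Subgroup.mem_zpowers b)
    · exact Subgroup.le_centralizer_iff.mp ((Subgroup.zpowers_le.mpr hbQ).trans h.pCore_le_centralizer_vMod)
    · intro z hz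
      refine Subgroup.mem_centralizer_iff.mpr fun y hy => ?_
      obtain ⟨k, rfl⟩ := hy
      exact (Commute.zpow_left (show Commute b z from ((mem_baumann_iff.mp hbB).2 z hz).symm) k).eq
  · rintro b ⟨hbQ, hbW⟩
    exact ⟨mem_baumann_iff.mpr ⟨h.pCore_le_T hbQ, fun z hz =>
      Subgroup.mem_centralizer_iff.mp hbW z (Subgroup.le_normalClosure hz)⟩, hbQ⟩

theorem baumann_le_sup :
    baumannSubgroupOf p (T : Subgroup X) ≤ thompsonSubgroupOf p (T : Subgroup X) ⊔
      (pCore p X ⊓ Subgroup.centralizer (wMod p (T : Subgroup X) : Set X)) := by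
  haveI := CfsgLib.ConjFunctor.pCore_normal (G := X) p
  intro b hb
  have h1 := h.baumann_le_UU D hb
  rw [h.UU_eq D, ← SetLike.mem_coe, Subgroup.mul_normal] at h1
  obtain ⟨j, hj, q, hq, rfl⟩ := h1
  have hqB : q ∈ baumannSubgroupOf p (T : Subgroup X) := by
    simpa using mul_mem (inv_mem (CfsgLib.BaumannBlock.thompsonSubgroupOf_le_baumann _ hj)) hb
  exact Subgroup.mul_mem_sup hj ((h.baumann_inf_pCore D).le ⟨hqB, hq⟩)

theorem lMod_le_trivMod :
    haveI := D.iSup_normal.2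
    lMod p (T : Subgroup X) ≤ trivMod (wMod p (T : Subgroup X)) (⨆ i, N i) := by
  haveI := D.iSup_normal.2
  refine Subgroup.normalClosure_le_normal ((h.baumann_le_sup D).trans (sup_le (h.thompson_le_trivMod D) ?_))
  rintro x ⟨-, hx⟩
  refine mem_trivMod.mpr fun w hw => ?_
  rw [← Subgroup.mem_centralizer_iff.mp hx w hw, mul_inv_cancel_right, mul_inv_cancel]
  exact one_mem _

theorem lMod_le_iSup : lMod p (T : Subgroup X) ≤ ⨆ i, E i := by
  haveI := D.iSup_normal.1
  exact Subgroup.normalClosure_le_normal fun b hb => ((h.mem_UU_iff D).mp (h.baumann_le_UU D hb)).2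

theorem lMod_le_trivMod_pCore :
    haveI := CfsgLib.ConjFunctor.pCore_normal (G := X) p
    lMod p (T : Subgroup X) ≤
      trivMod (pCore p X) (pCore p X ⊓ Subgroup.centralizer (wMod p (T : Subgroup X) : Set X)) := by
  haveI := CfsgLib.ConjFunctor.pCore_normal (G := X) p
  refine Subgroup.normalClosure_le_normal fun b hb => mem_trivMod.mpr fun q hq => ?_
  rw [← h.baumann_inf_pCore D]
  refine Subgroup.mem_inf.mpr ⟨?_, mul_mem (Subgroup.Normal.conj_mem inferInstance q hq b) (inv_mem hq)⟩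
  have h1 : q * b⁻¹ * q⁻¹ ∈ baumannSubgroupOf p (T : Subgroup X) :=
    (Subgroup.mem_normalizer_iff.mp ((charIn_baumann (p := p) (T : Subgroup X)).normalizer_le
      (Subgroup.le_normalizer (h.pCore_le_T hq))) _).mp (inv_mem hb)
  rw [show b * q * b⁻¹ * q⁻¹ = b * (q * b⁻¹ * q⁻¹) by group]
  exact mul_mem hb h1

omit D in
theorem lMod_sup_T : lMod p (T : Subgroup X) ⊔ (T : Subgroup X) = ⊤ :=
  h.sup_T_eq_top fun hle => h.thompson_not_le (le_trans (le_inf (CfsgLib.LocalP.thompsonSubgroupOf_le _)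
    ((CfsgLib.BaumannBlock.thompsonSubgroupOf_le_baumann _).trans (baumann_le_lMod _))) hle)

/-- The Thompson subgroup covers each `T ∩ E i` on its block. -/
theorem exists_thompson_sameOn {i : Fin r} {u : X} (hu : u ∈ (T : Subgroup X) ⊓ E i) :
    ∃ j ∈ thompsonSubgroupOf p (T : Subgroup X), j ∈ E i ∧ SameOn (N i) j u := by
  haveI := CfsgLib.ConjFunctor.pCore_normal (G := X) p
  have h1 : u ∈ thompsonSubgroupOf p (T : Subgroup X) ⊔ pCore p X :=
    h.UU_eq D ▸ le_iSup (fun k => (T : Subgroup X) ⊓ E k) i hu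
  rw [← SetLike.mem_coe, Subgroup.mul_normal] at h1
  obtain ⟨j, hj, q, hq, rfl⟩ := h1
  refine ⟨j, hj, ?_, fun x hx => ?_⟩
  · have h2 := mul_mem (Subgroup.mem_inf.mp hu).2 (inv_mem (h.pCore_le_E D i hq))
    simpa using h2
  · have h3 := Subgroup.mem_centralizer_iff.mp (h.pCore_le_centralizer_vMod hq) x (D.N_le i hx)
    calc j * x * j⁻¹ = j * (x * q * q⁻¹) * j⁻¹ := by group
      _ = j * (q * x * q⁻¹) * j⁻¹ := by rw [h3]
      _ = _ := by group

open scoped MatrixGroups in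
/-- A normal subgroup containing `J(T)` induces all of `E i` on the block `i`. -/
theorem covers {H : Subgroup X} [H.Normal] (hJ : thompsonSubgroupOf p (T : Subgroup X) ≤ H) (i : Fin r)
    {e : X} (he : e ∈ E i) : ∃ k ∈ H ⊓ E i, SameOn (N i) k e := by
  obtain ⟨F, _, _, _, ⟨C⟩⟩ := exists_coord (T : Subgroup X) (D.nat i)
  set R := (H.subgroupOf (E i)).map C.ρ with hR
  haveI : R.Normal := (Subgroup.Normal.comap ‹H.Normal› (E i).subtype).map _ C.ρ_surj
  set U' := (((T : Subgroup X) ⊓ E i).subgroupOf (E i)).map C.ρ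
  have hUR : U' ≤ R := by
    rintro _ ⟨u, hu, rfl⟩
    obtain ⟨j, hj, hjE, hju⟩ := h.exists_thompson_sameOn D (i := i) (u := (u : X)) hu
    refine ⟨⟨j, hjE⟩, hJ hj, Subtype.ext (Matrix.ext_of_mulVec_single fun k => ?_)⟩
    obtain ⟨x, hx⟩ := C.crd.surjective (Pi.single k 1)
    rw [← hx]
    have hmem : (u : X) * x * (u : X)⁻¹ ∈ N i := (Subgroup.mem_normalizer_iff.mp (D.E_norm i u.2) _).mp x.2
    rw [← C.act_ρ u x ⟨_, hmem⟩ rfl, ← C.act_ρ ⟨j, hjE⟩ x ⟨_, hmem⟩ (hju x x.2).symm]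
  have hidx : ¬ p ∣ R.index := fun hd => by
    refine D.sylow i ?_
    exact (hd.trans (Subgroup.index_dvd_of_le hUR)).trans (Subgroup.index_map_dvd _ C.ρ_surj)
  have hp' : ∀ g : SL(2, F), g ^ p = 1 → g ∈ R := by
    intro g hg
    rw [← QuotientGroup.eq_one_iff]
    refine orderOf_eq_one_iff.mp (Nat.eq_one_of_dvd_coprimes
      ((Fact.out : p.Prime).coprime_iff_not_dvd.mpr hidx) ?_ ?_)
    · refine orderOf_dvd_of_pow_eq_one ?_
      rw [← QuotientGroup.mk_pow, hg, QuotientGroup.mk_one]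
    · rw [Subgroup.index_eq_card]
      exact orderOf_dvd_natCard _
  have hup : ∀ a : F, CfsgLib.PushingUp.upperT a ∈ R := fun a => hp' _ (by
    have key : ∀ n : ℕ, CfsgLib.PushingUp.upperT a ^ n = CfsgLib.PushingUp.upperT ((n : F) * a) := by
      intro n
      induction n with
      | zero => ext k l; fin_cases k <;> fin_cases l <;> simp [CfsgLib.PushingUp.upperT_coe]
      | succ n ih => rw [pow_succ, ih, CfsgLib.PushingUp.upperT_mul]; congr 1; push_cast; ring
    rw [key, CharP.cast_eq_zero, zero_mul]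
    ext k l; fin_cases k <;> fin_cases l <;> simp [CfsgLib.PushingUp.upperT_coe])
  have hlo : ∀ a : F, CfsgLib.PushingUp.lowerT a ∈ R := fun a => hp' _ (by
    have key : ∀ n : ℕ, CfsgLib.PushingUp.lowerT a ^ n = CfsgLib.PushingUp.lowerT ((n : F) * a) := by
      intro n
      induction n with
      | zero => ext k l; fin_cases k <;> fin_cases l <;> simp [CfsgLib.PushingUp.lowerT_coe]
      | succ n ih =>
        rw [pow_succ, ih]
        ext k l
        fin_cases k <;> fin_cases l <;>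
          simp [CfsgLib.PushingUp.lowerT_coe, Matrix.SpecialLinearGroup.coe_mul, Matrix.mul_apply, Fin.sum_univ_two] <;>
          ring
    rw [key, CharP.cast_eq_zero, zero_mul]
    ext k l; fin_cases k <;> fin_cases l <;> simp [CfsgLib.PushingUp.lowerT_coe])
  obtain ⟨k, hk, hke⟩ := CfsgLib.PushingUp44.mem_of_upper_lower hup hlo (C.ρ ⟨e, he⟩)
  refine ⟨k, ⟨hk, k.2⟩, fun x hx => ?_⟩
  have hmk : (k : X) * x * (k : X)⁻¹ ∈ N i := (Subgroup.mem_normalizer_iff.mp (D.E_norm i k.2) _).mp hx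
  have hme : e * x * e⁻¹ ∈ N i := (Subgroup.mem_normalizer_iff.mp (D.E_norm i he) _).mp hx
  have h1 := C.act_ρ k ⟨x, hx⟩ ⟨_, hmk⟩ rfl
  have h2 := C.act_ρ ⟨e, he⟩ ⟨x, hx⟩ ⟨_, hme⟩ rfl
  rw [hke, ← h2] at h1
  exact congrArg Subtype.val (C.crd.injective h1)

theorem lMod_inf_pCore :
    lMod p (T : Subgroup X) ⊓ pCore p X ≤
      pCore p X ⊓ Subgroup.centralizer (wMod p (T : Subgroup X) : Set X) := by
  haveI := D.iSup_normal.2
  haveI := CfsgLib.ConjFunctor.pCore_normal (G := X) p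
  rintro x ⟨hxL, hxQ⟩
  refine ⟨hxQ, ?_⟩
  set W := wMod p (T : Subgroup X) with hWdef
  set L := lMod p (T : Subgroup X)
  have hab := (CfsgLib.LocalP.isElementaryAbelian_iff.mp (h.wMod_el D)).1
  have hNW : (⨆ i, N i) ≤ W := (iSup_le D.N_le).trans h.vMod_le_wMod
  have hxn : ∀ n ∈ (⨆ i, N i : Subgroup X), x * n = n * x := fun n hn =>
    (Subgroup.mem_centralizer_iff.mp (h.pCore_le_centralizer_vMod hxQ) n (iSup_le D.N_le hn)).symm
  have hzero : ∀ z ∈ zThompson p (T : Subgroup X), x * z * x⁻¹ * z⁻¹ = 1 := by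
    intro z hz
    have hzW : z ∈ W := Subgroup.le_normalClosure hz
    set c := x * z * x⁻¹ * z⁻¹ with hc
    have hcN : c ∈ ⨆ i, N i := mem_trivMod.mp (h.lMod_le_trivMod D hxL) z hzW
    have hcfix : c ∈ (⨆ i, N i) ⊓ Subgroup.centralizer (L : Set X) := by
      refine ⟨hcN, Subgroup.mem_centralizer_iff.mpr fun l hl => ?_⟩
      have hn := mem_trivMod.mp (h.lMod_le_trivMod D hl) z hzW
      have hq₀ := (mem_trivMod.mp (h.lMod_le_trivMod_pCore D hl) x hxQ).2
      set n := l * z * l⁻¹ * z⁻¹ with hndef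
      set q₀ := l * x * l⁻¹ * x⁻¹ with hqdef
      have hxzW : x * z * x⁻¹ ∈ W := Subgroup.Normal.conj_mem inferInstance z hzW x
      have hnz : n * z ∈ W := mul_mem (hNW hn) hzW
      have e1 : l * c * l⁻¹ = (q₀ * x) * (n * z) * (q₀ * x)⁻¹ * (n * z)⁻¹ := by
        simp only [hc, hndef, hqdef]; group
      have e2 : x * (n * z) * x⁻¹ = n * (c * z) := by
        calc x * (n * z) * x⁻¹ = (x * n) * (x⁻¹ * (x * z * x⁻¹)) := by group
          _ = (n * x) * (x⁻¹ * (x * z * x⁻¹)) := by rw [hxn n hn]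
          _ = _ := by simp only [hc]; group
      have e3 : (q₀ * x) * (n * z) * (q₀ * x)⁻¹ = x * (n * z) * x⁻¹ := by
        have h5 : x * (n * z) * x⁻¹ ∈ W := Subgroup.Normal.conj_mem inferInstance _ hnz x
        calc (q₀ * x) * (n * z) * (q₀ * x)⁻¹ = q₀ * (x * (n * z) * x⁻¹) * q₀⁻¹ := by group
          _ = _ := by rw [← Subgroup.mem_centralizer_iff.mp hq₀ _ h5, mul_inv_cancel_right]
      have e4 : l * c * l⁻¹ = c := by
        rw [e1, e3, e2]
        calc n * (c * z) * (n * z)⁻¹ = n * c * n⁻¹ := by group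
          _ = c := by rw [hab n (hNW hn) c (hNW hcN), mul_inv_cancel_right]
      calc l * c = l * c * l⁻¹ * l := by group
        _ = c * l := by rw [e4]
    rw [D.no_fixed fun i e he => ?_, Subgroup.mem_bot] at hcfix
    · exact hcfix
    · obtain ⟨k, hk, hke⟩ := h.covers D (H := L)
        ((CfsgLib.BaumannBlock.thompsonSubgroupOf_le_baumann _).trans (baumann_le_lMod _)) i he
      exact ⟨k, hk.1, hke, fun j hj => D.cross j i hj hk.2⟩
  rw [hWdef, h.wMod_eq D]
  refine (Subgroup.le_centralizer_iff.mp (sup_le ?_ ?_) : Subgroup.zpowers x ≤ _) (Subgroup.mem_zpowers x)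
  · exact Subgroup.le_centralizer_iff.mp ((Subgroup.zpowers_le.mpr hxQ).trans h.pCore_le_centralizer_vMod)
  · intro z hz
    refine Subgroup.mem_centralizer_iff.mpr fun y hy => ?_
    obtain ⟨k, rfl⟩ := hy
    refine (Commute.zpow_left (show Commute x z from ?_) k).eq
    exact mul_inv_eq_iff_eq_mul.mp (mul_inv_eq_one.mp (hzero z hz))

theorem inf_lMod : (T : Subgroup X) ⊓ lMod p (T : Subgroup X) = baumannSubgroupOf p (T : Subgroup X) := by
  haveI := CfsgLib.ConjFunctor.pCore_normal (G := X) p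
  refine le_antisymm ?_ (le_inf (CfsgLib.BaumannBlock.baumannSubgroupOf_le _) (baumann_le_lMod _))
  rintro x ⟨hxT, hxL⟩
  have h1 : x ∈ UU (T : Subgroup X) E := (h.mem_UU_iff D).mpr ⟨hxT, h.lMod_le_iSup D hxL⟩
  rw [h.UU_eq D, ← SetLike.mem_coe, Subgroup.mul_normal] at h1
  obtain ⟨j, hj, q, hq, rfl⟩ := h1
  have hjB := CfsgLib.BaumannBlock.thompsonSubgroupOf_le_baumann (p := p) _ hj
  have hqL : q ∈ lMod p (T : Subgroup X) := by
    simpa using mul_mem (inv_mem (baumann_le_lMod _ hjB)) hxL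
  exact mul_mem hjB ((h.baumann_inf_pCore D).ge (h.lMod_inf_pCore D ⟨hqL, hq⟩)).1

theorem centralizer_lMod_le :
    lMod p (T : Subgroup X) ⊓ Subgroup.centralizer
        ((pCore p X ⊓ Subgroup.centralizer (wMod p (T : Subgroup X) : Set X) : Subgroup X) : Set X) ≤
      pCore p X ⊓ Subgroup.centralizer (wMod p (T : Subgroup X) : Set X) := by
  haveI := CfsgLib.ConjFunctor.pCore_normal (G := X) p
  set Q₀ := pCore p X ⊓ Subgroup.centralizer (wMod p (T : Subgroup X) : Set X) with hQ₀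
  set K := lMod p (T : Subgroup X) ⊓ Subgroup.centralizer (Q₀ : Set X)
  have hKp : IsPGroup p K := by
    refine CfsgLib.LocalP.isPGroup_of_forall_coprime _ fun x hx hcop => ?_
    refine CfsgLib.LocalP.eq_one_of_centralizes_pCore h.constrained hcop fun q hq => ?_
    have hxL : x ∈ lMod p (T : Subgroup X) := (Subgroup.mem_inf.mp hx).1
    have h2 : ⁅q, x⁆ ∈ Q₀ := by
      have h1 : (x * q * x⁻¹ * q⁻¹)⁻¹ ∈ Q₀ := inv_mem (mem_trivMod.mp (h.lMod_le_trivMod_pCore D hxL) q hq)
      rw [show ⁅q, x⁆ = (x * q * x⁻¹ * q⁻¹)⁻¹ by rw [commutatorElement_def]; group]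
      exact h1
    obtain ⟨k, hk⟩ := (CfsgLib.ConjFunctor.isPGroup_pCore (G := X) p) ⟨_, h2.1⟩
    have hqx := CfsgLib.PushingUp44.commute_of_coprime_comm (a := q) hcop
      (Subgroup.mem_centralizer_iff.mp (Subgroup.mem_inf.mp hx).2 _ h2) ⟨k, congrArg Subtype.val hk⟩
    exact hqx.symm.eq
  haveI : K.Normal := inferInstance
  intro x hx
  exact h.lMod_inf_pCore D ⟨(Subgroup.mem_inf.mp hx).1, CfsgLib.LocalP.le_pCore inferInstance hKp hx⟩

end Core

end CfsgLib.TwoSubgroup16
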