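import Cfsg.Agent.TwoSubgroup16.Ambient
import Cfsg.Agent.TwoSubgroup16.OddDecomp
import Cfsg.Agent.TwoSubgroup16.NegOne
import Cfsg.Agent.TwoSubgroup16.Blocks

/-!
The decomposition of `V` into natural blocks.
-/

set_option autoImplicit false

open Cfsg
open CfsgLib.ConjFunctor (conjOf conjOf_conjOf conjOf_one card_conjOf conjOf_mono conj_mem_conjOf mem_normalizer_iff_conjOf conjOf_le_iff mem_conjOf)
open scoped commutatorElement

namespace CfsgLib.TwoSubgroup16

variable {X : Type*} [Group X] [Finite X] {p : ℕ} [Fact p.Prime] {T : Sylow p X} {M : Subgroup X}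

set_option maxHeartbeats 800000

namespace Core

variable (h : Core p T M)

include h

/-- The hypotheses of the offender theorem in the ambient group. -/
theorem exists_ambient :
    let V := vMod p (T : Subgroup X)
    let P := (toAmb V).range
    ∃ (T' : Sylow p ↥P) (M' : Subgroup ↥P), IsPMinimal p ↥P ∧ pCore p ↥P = ⊥ ∧ IsCoatom M' ∧
      (T' : Subgroup ↥P) ≤ M' ∧ (T' : Subgroup ↥P).map P.subtype = (T : Subgroup X).map (toAmb V) ∧
      P ⊓ Subgroup.centralizer ((vAmb V ⊓ Subgroup.centralizer
        ((((T' : Subgroup ↥P).map P.subtype) : Subgroup (Amb V)) : Set (Amb V))) : Set (Amb V)) ≤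
          M'.map P.subtype ∧
      ∃ A : Subgroup (Amb V), A ≤ P ∧ ¬ A ≤ Subgroup.centralizer (vAmb V : Set (Amb V)) ∧
        IsBestOffenderOn p (vAmb V) A := by
  intro V P
  set g := toAmb V
  set f := g.rangeRestrict
  have hfs : Function.Surjective f := g.rangeRestrict_surjective
  have hker : g.ker = Subgroup.centralizer (V : Set X) := ker_toAmb V
  have hfker : f.ker = Subgroup.centralizer (V : Set X) := by rw [MonoidHom.ker_rangeRestrict, hker]
  have hCM : f.ker ≤ M := hfker ▸ h.centralizer_vMod_le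
  haveI hCn : (Subgroup.centralizer (V : Set X)).Normal := inferInstance
  set T' := T.mapSurjective hfs with hT'
  set M' := M.map f
  have hcm : M'.comap f = M := by rw [Subgroup.comap_map_eq, sup_eq_left.mpr hCM]
  have hcoat : IsCoatom M' := by
    refine ⟨fun e => h.M_ne_top ?_, fun H hH => ?_⟩
    · rw [← hcm, e, Subgroup.comap_top]
    · have h1 : M < H.comap f := by
        rw [← hcm]
        exact (Subgroup.comap_lt_comap_of_surjective hfs).mpr hH
      rw [← Subgroup.map_comap_eq_self_of_surjective hfs H, h.isCoatom_M.2 _ h1,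
        Subgroup.map_top_of_surjective f hfs]
  have hTM' : (T' : Subgroup ↥P) ≤ M' := Subgroup.map_mono h.T_le
  have hTc : ∀ H : Subgroup ↥P, (T' : Subgroup ↥P) ≤ H → (T : Subgroup X) ≤ H.comap f := fun H hH =>
    Subgroup.map_le_iff_le_comap.mp hH
  have huniq : ∃! M₁ : Subgroup ↥P, IsCoatom M₁ ∧ (T' : Subgroup ↥P) ≤ M₁ := by
    refine ⟨M', ⟨hcoat, hTM'⟩, ?_⟩
    rintro H ⟨hH, hTH⟩
    by_contra hne
    have h1 : H.comap f ≤ M := h.uniq _ (hTc H hTH) fun e => hH.1 (by
      rw [← Subgroup.map_comap_eq_self_of_surjective hfs H, e, Subgroup.map_top_of_surjective f hfs])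
    have h2 : H ≤ M' := by
      rw [← Subgroup.map_comap_eq_self_of_surjective hfs H]
      exact Subgroup.map_mono h1
    exact hcoat.1 (hH.2 M' (lt_of_le_of_ne h2 hne))
  have hTC : ∀ x ∈ (T : Subgroup X), x ∈ Subgroup.centralizer (V : Set X) → x ∈ pCore p X := fun x hx hxc =>
    h.inf_centralizer_vMod.le ⟨hx, hxc⟩
  have hsat : ((T' : Subgroup ↥P)).comap f = (T : Subgroup X) ⊔ Subgroup.centralizer (V : Set X) := by
    rw [hT', Sylow.coe_mapSurjective, Subgroup.comap_map_eq, hfker]
  have hnorm : ¬ (T' : Subgroup ↥P).Normal := by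
    intro hn
    haveI : ((T : Subgroup X) ⊔ Subgroup.centralizer (V : Set X)).Normal := hsat ▸ hn.comap f
    have h1 := h.inf_le_pCore (H := (T : Subgroup X) ⊔ Subgroup.centralizer (V : Set X))
      (sup_le h.T_le h.centralizer_vMod_le)
    exact h.not_le_pCore ((le_inf le_rfl le_sup_left).trans h1)
  have hmin : IsPMinimal p ↥P := CfsgLib.CharP.isPMinimal_of_one T' hnorm huniq
  have hOp : pCore p ↥P = ⊥ := by
    haveI : (pCore p ↥P).Normal := CfsgLib.ConjFunctor.pCore_normal p
    set K := (pCore p ↥P).comap f with hK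
    haveI : K.Normal := Subgroup.Normal.comap inferInstance f
    have hKle : K ≤ (T : Subgroup X) ⊔ Subgroup.centralizer (V : Set X) :=
      hsat ▸ Subgroup.comap_mono (CfsgLib.ConjFunctor.pCore_le_sylow T')
    have h1 := h.inf_le_pCore (H := K) (hKle.trans (sup_le h.T_le h.centralizer_vMod_le))
    rw [eq_bot_iff]
    intro y hy
    obtain ⟨x, rfl⟩ := hfs y
    have hxK : x ∈ K := hy
    have hx := hKle hxK
    rw [← SetLike.mem_coe, Subgroup.mul_normal] at hx
    obtain ⟨t, ht, c, hc, rfl⟩ := hx
    have hcK : c ∈ K := by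
      have : c ∈ f.ker := hfker ▸ hc
      exact Subgroup.mem_comap.mpr (MonoidHom.mem_ker.mp this ▸ one_mem _)
    have htQ : t ∈ pCore p X := h1 ⟨ht, by simpa using mul_mem hxK (inv_mem hcK)⟩
    have htC : t ∈ f.ker := hfker ▸ h.pCore_le_centralizer_vMod htQ
    rw [Subgroup.mem_bot, map_mul, MonoidHom.mem_ker.mp htC, MonoidHom.mem_ker.mp (hfker ▸ hc : c ∈ f.ker),
      mul_one]
  have hmapT : (T' : Subgroup ↥P).map P.subtype = (T : Subgroup X).map g := by
    rw [hT', Sylow.coe_mapSurjective, Subgroup.map_map]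
    rfl
  refine ⟨T', M', hmin, hOp, hcoat, hTM', hmapT, ?_, ?_⟩
  · rintro _ ⟨⟨x, rfl⟩, hx⟩
    refine ⟨f x, ⟨x, h.centralizer_zOne_le (Subgroup.mem_centralizer_iff.mpr fun z hz => ?_), rfl⟩, rfl⟩
    have hzV : z ∈ V := Subgroup.subset_normalClosure hz
    refine ((commute_inl_iff V x ⟨z, hzV⟩).mp ?_).symm
    refine (Subgroup.mem_centralizer_iff.mp hx _ ⟨⟨_, rfl⟩, Subgroup.mem_centralizer_iff.mpr ?_⟩).symm
    rw [hmapT]
    rintro _ ⟨t, ht, rfl⟩
    exact (commute_inl_iff V t _).mpr (Subgroup.mem_centralizer_iff.mp (mem_zOne_iff.mp hz).2.1 t ht)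
  · obtain ⟨A, hA, hAQ⟩ := h.exists_offender
    refine ⟨A.map g, Subgroup.map_le_range g A, fun hle => hAQ fun a ha => ?_, ?_, ?_, ?_⟩
    · refine hTC a (hA.1 ha) (Subgroup.mem_centralizer_iff.mpr fun v hv => ?_)
      exact ((commute_inl_iff V a ⟨v, hv⟩).mp
        (Subgroup.mem_centralizer_iff.mp (hle ⟨a, ha, rfl⟩) _ ⟨⟨v, hv⟩, rfl⟩).symm).symm
    · intro B' hB'
      set B := A ⊓ B'.comap g with hB
      have hBmap : B.map g = B' := by
        refine le_antisymm ?_ fun y hy => ?_
        · rintro _ ⟨b, hb, rfl⟩; exact hb.2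
        · obtain ⟨a, ha, rfl⟩ := hB' hy
          exact ⟨a, ⟨ha, hy⟩, rfl⟩
      have hBk : B ⊓ g.ker = A ⊓ Subgroup.centralizer (V : Set X) := by
        rw [hker, hB]
        refine le_antisymm (inf_le_inf_right _ inf_le_left) (le_inf (le_inf inf_le_left ?_) inf_le_right)
        intro a ha
        show g a ∈ B'
        have : a ∈ g.ker := hker ▸ ha.2
        rw [MonoidHom.mem_ker.mp this]
        exact one_mem _
      have hab := (CfsgLib.LocalP.isElementaryAbelian_iff.mp hA.2.1).1
      have hBV : B ⊓ (V ⊓ Subgroup.centralizer (B : Set X)) ≤ V ⊓ Subgroup.centralizer (A : Set X) := by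
        rw [← h.inf_vMod_eq hA]
        exact le_inf (inf_le_right.trans inf_le_left) (inf_le_left.trans inf_le_left)
      have hel : IsElementaryAbelian p (B ⊔ (V ⊓ Subgroup.centralizer (B : Set X))) :=
        CfsgLib.LocalP.isElementaryAbelian_sup (CfsgLib.LocalP.isElementaryAbelian_mono hA.2.1 inf_le_left)
          (CfsgLib.LocalP.isElementaryAbelian_mono h.vMod_el inf_le_left)
          fun b hb v hv => Subgroup.mem_centralizer_iff.mp hv.2 b hb
      have h1 := hA.2.2 _ (sup_le (inf_le_left.trans hA.1) (inf_le_left.trans h.vMod_le_T)) hel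
      have h2 := CfsgLib.LocalP.card_mul_le_card_sup_mul_card_inf B (V ⊓ Subgroup.centralizer (B : Set X))
      have h3 : Nat.card B * Nat.card ↥(V ⊓ Subgroup.centralizer (B : Set X)) ≤
          Nat.card A * Nat.card ↥(V ⊓ Subgroup.centralizer (A : Set X)) :=
        h2.trans (Nat.mul_le_mul h1 (Subgroup.card_le_of_le hBV))
      rw [← hBmap, card_fix_map, card_fix_map]
      have e1 := card_eq_card_map_mul g B
      have e2 := card_eq_card_map_mul g A
      rw [hBk] at e1
      rw [hker] at e2
      rw [e1, e2] at h3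
      have hpos : 0 < Nat.card ↥(A ⊓ Subgroup.centralizer (V : Set X)) := Nat.card_pos
      refine Nat.le_of_mul_le_mul_left ?_ hpos
      calc _ = Nat.card (B.map g) * Nat.card ↥(A ⊓ Subgroup.centralizer (V : Set X)) *
            Nat.card ↥(V ⊓ Subgroup.centralizer (B : Set X)) := by ring
        _ ≤ _ := h3
        _ = _ := by ring
    · rw [Subgroup.commutator_le]
      rintro _ ⟨a, ha, rfl⟩ _ ⟨b, hb, rfl⟩
      have : ⁅g a, g b⁆ = 1 := by
        rw [← map_commutatorElement, commutatorElement_eq_one_iff_mul_comm.mpr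
          ((CfsgLib.LocalP.isElementaryAbelian_iff.mp hA.2.1).1 a ha b hb), map_one]
      rw [this]
      exact one_mem _
    · rintro _ ⟨a, ha, rfl⟩
      rw [← map_pow, (CfsgLib.LocalP.isElementaryAbelian_iff.mp hA.2.1).2 a ha, map_one]
      exact one_mem _

/-- The decomposition into blocks. -/
theorem exists_blocks :
    ∃ (r : ℕ) (E N : Fin r → Subgroup X), Blocks p (vMod p (T : Subgroup X)) (T : Subgroup X) E N := by
  set V := vMod p (T : Subgroup X) with hVdef
  set g := toAmb V with hg
  obtain ⟨T', M', hmin, hOp, hcoat, hTM', hmapT₀, hCT, hoff⟩ := h.exists_ambient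
  have hmapT : (T' : Subgroup ↥g.range).map g.range.subtype = (T : Subgroup X).map g := hmapT₀
  have hVel : IsElementaryAbelian p (vAmb V) := by
    rw [CfsgLib.LocalP.isElementaryAbelian_iff]
    have hab := CfsgLib.LocalP.isElementaryAbelian_iff.mp h.vMod_el
    refine ⟨?_, ?_⟩
    · rintro _ ⟨a, rfl⟩ _ ⟨b, rfl⟩
      rw [← map_mul, ← map_mul, show a * b = b * a from Subtype.ext (hab.1 a a.2 b b.2)]
    · rintro _ ⟨a, rfl⟩
      rw [← map_pow, show a ^ p = 1 from Subtype.ext (by simpa using hab.2 a a.2), map_one]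
  have hfaith : g.range ⊓ Subgroup.centralizer (vAmb V : Set (Amb V)) = ⊥ := by
    rw [eq_bot_iff]
    rintro _ ⟨⟨x, rfl⟩, hx⟩
    have hxk : x ∈ g.ker := by
      rw [hg, ker_toAmb]
      exact Subgroup.mem_centralizer_iff.mpr fun v hv =>
        ((commute_inl_iff V x ⟨v, hv⟩).mp (Subgroup.mem_centralizer_iff.mp hx _ ⟨⟨v, hv⟩, rfl⟩).symm).symm
    exact Subgroup.mem_bot.mpr hxk
  obtain ⟨r, E', hr, hEP, hcomm, htop, htrans, hperm, hgen, hcross, hmodel⟩ :=
    odd_decomposition h.ne_two (vAmb V) g.range hVel (vAmb_le_normalizer V) hfaith hmin T' M' hcoat hTM' hOp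
      hoff hCT
  rw [hmapT] at htop htrans hperm
  set E : Fin r → Subgroup X := fun i => (E' i).comap g with hEdef
  set N' : Fin r → Subgroup (Amb V) := fun i => ⁅vAmb V, E' i⁆ with hN'def
  set N : Fin r → Subgroup X := fun i => backV V (N' i) with hNdef
  have hN'V : ∀ i, N' i ≤ vAmb V := fun i => by
    refine Subgroup.commutator_le.mpr fun v hv e he => ?_
    have h1 := (Subgroup.mem_normalizer_iff.mp (vAmb_le_normalizer V (hEP i he)) _).mp (inv_mem hv)
    rw [show ⁅v, e⁆ = v * (e * v⁻¹ * e⁻¹) by simp [commutatorElement_def, mul_assoc]]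
    exact mul_mem hv h1
  have hEmap : ∀ i, (E i).map g = E' i := fun i => Subgroup.map_comap_eq_self (hEP i)
  have hEn : ∀ i, E' i ≤ Subgroup.normalizer (vAmb V : Set (Amb V)) := fun i =>
    (hEP i).trans (vAmb_le_normalizer V)
  -- no fixed points
  have hno : ∀ i, N' i ⊓ Subgroup.centralizer (E' i : Set (Amb V)) = ⊥ := by
    intro i
    obtain ⟨n, hn, F, iF, iT, hF, hiso, hact⟩ := hmodel i
    haveI : CharP F p := charP_of_card_eq_prime_pow (f := n) hF
    refine commutator_inf_centralizer_eq_bot h.ne_two hVel (hEn i) hiso ?_ hact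
    refine hgen.ge.trans (sup_le (le_trans ?_ le_sup_right) (iSup_le fun j => ?_))
    · exact le_inf inf_le_left (inf_le_right.trans (Subgroup.centralizer_le (le_iSup E' i)))
    · by_cases hji : j = i
      · exact hji ▸ le_sup_left
      · exact le_trans (le_inf (hN'V j) (Subgroup.commutator_eq_bot_iff_le_centralizer.mp (hcross j i hji)))
          le_sup_right
  have hNV : ∀ i, N i ≤ V := fun i x hx => ((mem_backV V).mp hx).1
  have hcent : ∀ (e : X) (i : Fin r), g e ∈ Subgroup.centralizer (N' i : Set (Amb V)) →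
      e ∈ Subgroup.centralizer (N i : Set X) := fun e i he => Subgroup.mem_centralizer_iff.mpr fun x hx => by
    obtain ⟨hxV, hx'⟩ := (mem_backV V).mp hx
    exact ((commute_inl_iff V e ⟨x, hxV⟩).mp (Subgroup.mem_centralizer_iff.mp he _ hx').symm).symm
  have hconj : ∀ (t : X) (i j : Fin r), (E' i).map (MulAut.conj (g t)).toMonoidHom = E' j →
      conjOf t (E i) = E j ∧ conjOf t (N i) = N j := by
    intro t i j hij
    refine ⟨?_, conjOf_backV V t ?_⟩
    · ext x
      rw [mem_conjOf]
      show g (t⁻¹ * x * t) ∈ E' i ↔ g x ∈ E' j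
      rw [← hij, Subgroup.mem_map_equiv, MulAut.conj_symm_apply, map_mul, map_mul, map_inv]
    · rw [Subgroup.map_commutator, hij]
      congr 1
      exact mem_normalizer_iff_conjOf.mp (vAmb_le_normalizer V ⟨t, rfl⟩)
  have hC₀ : ∀ v : ↥V, (SemidirectProduct.inl v : Amb V) ∈
      Subgroup.centralizer (((⨆ i, E' i) : Subgroup (Amb V)) : Set (Amb V)) →
      (v : X) ∈ Subgroup.centralizer (((⨆ i, E i) : Subgroup X) : Set X) := by
    intro v hv
    refine Subgroup.mem_centralizer_iff.mpr fun e he => ?_
    have h1 : g e ∈ ⨆ i, E' i := by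
      have := Subgroup.mem_map_of_mem g he
      rw [Subgroup.map_iSup] at this
      simpa only [hEmap] using this
    exact (commute_inl_iff V e v).mp (Subgroup.mem_centralizer_iff.mp hv _ h1)
  have hgen' : (V ⊓ Subgroup.centralizer (((⨆ i, E i) : Subgroup X) : Set X)) ⊔ (⨆ i, N i) = V := by
    refine le_antisymm (sup_le inf_le_left (iSup_le hNV)) fun v hv => ?_
    set S := (V ⊓ Subgroup.centralizer (((⨆ i, E i) : Subgroup X) : Set X)) ⊔ (⨆ i, N i)
    have hle : vAmb V ≤ (S.subgroupOf V).map (SemidirectProduct.inl : ↥V →* Amb V) := by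
      refine hgen.ge.trans (sup_le ?_ (iSup_le fun i => ?_))
      · rintro _ ⟨⟨w, rfl⟩, hw⟩
        exact ⟨w, Subgroup.mem_sup_left ⟨w.2, hC₀ w hw⟩, rfl⟩
      · intro y hy
        obtain ⟨w, rfl⟩ := hN'V i hy
        exact ⟨w, Subgroup.mem_sup_right (le_iSup N i ((mem_backV V).mpr ⟨w.2, hy⟩)), rfl⟩
    obtain ⟨w, hw, hwv⟩ := hle (⟨⟨v, hv⟩, rfl⟩ : SemidirectProduct.inl ⟨v, hv⟩ ∈ vAmb V)
    rw [SemidirectProduct.inl_inj] at hwv
    subst hwv
    exact hw
  have hcross' : ∀ i j, i ≠ j → E j ≤ Subgroup.centralizer (N i : Set X) := fun i j hij e he =>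
    hcent e i (Subgroup.le_centralizer_iff.mp
      (Subgroup.commutator_eq_bot_iff_le_centralizer.mp (hcross i j hij)) he)
  have htop' : (⨆ i, E i) ⊔ (T : Subgroup X) = ⊤ := by
    refine top_le_iff.mp fun x _ => ?_
    have hC : g.ker ≤ (⨆ i, E i) ⊔ (T : Subgroup X) :=
      (MonoidHom.ker_le_comap g (E' ⟨0, hr⟩)).trans ((le_iSup E ⟨0, hr⟩).trans le_sup_left)
    have h1 : ((⨆ i, E i) ⊔ (T : Subgroup X)).map g = g.range := by
      rw [Subgroup.map_sup, Subgroup.map_iSup]
      simp only [hEmap]
      exact htop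
    have h2 : x ∈ (((⨆ i, E i) ⊔ (T : Subgroup X)).map g).comap g := by
      rw [h1]; exact ⟨x, rfl⟩
    rwa [Subgroup.comap_map_eq, sup_eq_left.mpr hC] at h2
  have hperm' : ∀ t ∈ (T : Subgroup X), ∀ i, ∃ j, conjOf t (E i) = E j ∧ conjOf t (N i) = N j := by
    intro t ht i
    obtain ⟨j, hj⟩ := hperm (g t) ⟨t, ht, rfl⟩ i
    exact ⟨j, hconj t i j hj⟩
  have hEnorm : ∀ i, E i ≤ Subgroup.normalizer (N i : Set X) := by
    intro i e he
    obtain ⟨-, -, -, -, -, -, -, hN, -⟩ := hmodel i
    exact mem_normalizer_iff_conjOf.mpr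
      (conjOf_backV V e (mem_normalizer_iff_conjOf.mp (hN (show g e ∈ E' i from he))))
  have hnormal : (⨆ i, E i).Normal := by
    refine Subgroup.normalizer_eq_top_iff.mp (top_le_iff.mp (htop'.ge.trans (sup_le Subgroup.le_normalizer ?_)))
    intro t ht
    refine mem_normalizer_iff_conjOf.mpr (Subgroup.eq_of_le_of_card_ge ?_ (card_conjOf _ _).ge)
    simp only [conjOf, Subgroup.map_iSup]
    refine iSup_le fun i => ?_
    obtain ⟨j, hj, -⟩ := hperm' t ht i
    exact hj.le.trans (le_iSup E j)
  have hEiN : ∀ i, (⨆ j, E j) ≤ Subgroup.normalizer (E i : Set X) := by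
    intro i
    refine iSup_le fun j e he => ?_
    by_cases hji : j = i
    · subst hji
      exact Subgroup.le_normalizer he
    rw [Subgroup.mem_normalizer_iff]
    intro x
    have hc : g e ∈ Subgroup.centralizer (E' i : Set (Amb V)) :=
      Subgroup.commutator_eq_bot_iff_le_centralizer.mp (hcomm j i hji) he
    show g x ∈ E' i ↔ g (e * x * e⁻¹) ∈ E' i
    rw [map_mul, map_mul, map_inv]
    constructor
    · intro hx
      rwa [← Subgroup.mem_centralizer_iff.mp hc _ hx, mul_inv_cancel_right]
    · intro hx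
      have h1 := Subgroup.mem_centralizer_iff.mp hc _ hx
      have e1 : g x = g e * g x * (g e)⁻¹ := by
        calc g x = (g e)⁻¹ * (g e * g x * (g e)⁻¹ * g e) := by group
          _ = (g e)⁻¹ * (g e * (g e * g x * (g e)⁻¹)) := by rw [h1]
          _ = _ := by group
      rw [e1]; exact hx
  refine ⟨r, E, N, ?_⟩
  exact
    { pos := hr
      ne_two := h.ne_two
      Vel := h.vMod_el
      Vn := inferInstance
      isP := T.2
      N_le := hNV
      C_le := fun i => by rw [← ker_toAmb]; exact MonoidHom.ker_le_comap g (E' i)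
      E_norm := hEnorm
      cross := hcross'
      gen := hgen'
      indep := fun i => by
        rw [eq_bot_iff]
        rintro x ⟨hxN, hx⟩
        obtain ⟨hxV, hx'⟩ := (mem_backV V).mp hxN
        have h1 : x ∈ Subgroup.centralizer (E i : Set X) := by
          refine (sup_le ?_ (iSup₂_le fun j hj => ?_) :
            (V ⊓ Subgroup.centralizer ((⨆ i, E i : Subgroup X) : Set X)) ⊔ ⨆ j ∈ {j | j ≠ i}, N j ≤
              Subgroup.centralizer (E i : Set X)) hx
          · exact inf_le_right.trans (Subgroup.centralizer_le (le_iSup E i))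
          · exact Subgroup.le_centralizer_iff.mp (hcross' j i hj)
        have h2 : (SemidirectProduct.inl ⟨x, hxV⟩ : Amb V) ∈
            N' i ⊓ Subgroup.centralizer (E' i : Set (Amb V)) := by
          refine ⟨hx', Subgroup.mem_centralizer_iff.mpr fun e he => ?_⟩
          obtain ⟨y, rfl⟩ := hEP i he
          exact (commute_inl_iff V y _).mpr (Subgroup.mem_centralizer_iff.mp h1 y he)
        rw [hno i, Subgroup.mem_bot, ← map_one (SemidirectProduct.inl : ↥V →* Amb V),
          SemidirectProduct.inl_inj] at h2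
        exact Subgroup.mem_bot.mpr (congrArg Subtype.val h2)
      perm := hperm'
      trans := fun i j => by
        obtain ⟨_, ⟨t, ht, rfl⟩, htj⟩ := htrans i j
        exact ⟨t, ht, hconj t i j htj⟩
      top := htop'
      nat := fun i => by
        obtain ⟨n, hn, F, iF, iT, hF, hiso, hEN, -, ρ, ψ, hρ, hψ, hker, hact⟩ := hmodel i
        refine ⟨F, iF, iT, charP_of_card_eq_prime_pow (f := n) hF, hEnorm i, bot_le, ?_⟩
        let gE : ↥(E i) →* ↥(E' i) := g.subgroupComap (E' i)
        have hgE : Function.Surjective gE := fun y => by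
          obtain ⟨x, hx⟩ := hEP i y.2
          exact ⟨⟨x, show g x ∈ E' i by rw [hx]; exact y.2⟩, Subtype.ext hx⟩
        let ι : ↥(N i) →* ↥(N' i) :=
          ((SemidirectProduct.inl : ↥V →* Amb V).comp (Subgroup.inclusion (hNV i))).codRestrict (N' i)
            fun x => ((mem_backV V).mp x.2).snd

        have hι : Function.Surjective ι := fun y => by
          obtain ⟨w, hw⟩ := hN'V i y.2
          exact ⟨⟨w, (mem_backV V).mpr ⟨w.2, show SemidirectProduct.inl w ∈ N' i by rw [hw]; exact y.2⟩⟩,
            Subtype.ext hw⟩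
        refine ⟨ρ.comp gE, ψ.comp ι, ?_, hψ.comp hι, fun u => ?_, fun e u => ?_⟩
        · exact MonoidHom.range_eq_top.mpr ((MonoidHom.range_eq_top.mp hρ).comp hgE)
        · show ψ (ι u) = 1 ↔ _
          rw [hker]
          constructor
          · intro h1
            have h2 : ((ι u : ↥(N' i)) : Amb V) ∈ (⊥ : Subgroup (Amb V)) := hno i ▸ h1
            rw [Subgroup.mem_bot] at h2
            have h3 : Subgroup.inclusion (hNV i) u = 1 := SemidirectProduct.inl_injective (h2.trans (map_one _).symm)
            exact Subgroup.mem_bot.mpr (congrArg Subtype.val h3)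
          · intro h1
            rw [show u = 1 from Subtype.ext (Subgroup.mem_bot.mp h1), map_one]
            exact one_mem _
        · obtain ⟨w, hw, hwψ⟩ := hact (gE e) (ι u)
          obtain ⟨v, rfl⟩ := hι w
          refine ⟨v, ?_, hwψ⟩
          have h1 := hw
          change (SemidirectProduct.inl (Subgroup.inclusion (hNV i) v) : Amb V) =
            toAmb V e * SemidirectProduct.inl (Subgroup.inclusion (hNV i) u) * (toAmb V e)⁻¹ at h1
          rw [conj_inl, SemidirectProduct.inl_inj] at h1
          exact congrArg Subtype.val h1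
      sylow := fun i => by
        refine CfsgLib.Alperin.not_dvd_relIndex_inf T (N := ⨆ j, E j) ?_ (le_iSup E i) (hEiN i)
        refine CfsgLib.Alperin.not_dvd_relIndex_inf T (N := ⊤) ?_ le_top ?_
        · rw [inf_top_eq, Subgroup.relIndex_top_right]; exact T.not_dvd_index
        · rw [Subgroup.normalizer_eq_top_iff.mpr hnormal]
      faith := fun x hx hxN => by
        set C := Subgroup.centralizer (V : Set X) with hCdef
        haveI hCn : C.Normal := inferInstance
        set R := (T : Subgroup X) ⊓ ⨅ i, Subgroup.centralizer (N i : Set X) with hR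
        have key : ∀ i, ∀ e ∈ E i, ∀ y ∈ R, e * y * e⁻¹ * y⁻¹ ∈ C := by
          intro i e he y hy
          refine Subgroup.mem_centralizer_iff.mpr fun v hv => ?_
          have hle : (V ⊓ Subgroup.centralizer (((⨆ i, E i) : Subgroup X) : Set X)) ⊔ (⨆ j, N j) ≤
              Subgroup.centralizer ({e * y * e⁻¹ * y⁻¹} : Set X) := by
            refine sup_le ?_ (iSup_le fun j => ?_)
            · rintro w ⟨hwV, hwE⟩
              rw [Subgroup.mem_centralizer_singleton_iff]
              have hy0 : y⁻¹ * w * y ∈ Subgroup.centralizer (((⨆ i, E i) : Subgroup X) : Set X) := by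
                refine Subgroup.mem_centralizer_iff.mpr fun d hd => ?_
                have hd' : y * d * y⁻¹ ∈ ⨆ i, E i := hnormal.conj_mem d hd y
                have h1 := Subgroup.mem_centralizer_iff.mp hwE _ hd'
                calc d * (y⁻¹ * w * y) = y⁻¹ * (y * d * y⁻¹ * w) * y := by group
                  _ = y⁻¹ * (w * (y * d * y⁻¹)) * y := by rw [h1]
                  _ = _ := by group
              have h2 := Subgroup.mem_centralizer_iff.mp hy0 e⁻¹ (inv_mem (le_iSup E i he))
              have h3 := Subgroup.mem_centralizer_iff.mp hwE e (le_iSup E i he)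
              calc w * (e * y * e⁻¹ * y⁻¹) = e * w * (y * e⁻¹ * y⁻¹) := by rw [h3]; group
                _ = e * y * (y⁻¹ * w * y * e⁻¹) * y⁻¹ := by group
                _ = e * y * (e⁻¹ * (y⁻¹ * w * y)) * y⁻¹ := by rw [h2]
                _ = _ := by group
            · intro w hw
              rw [Subgroup.mem_centralizer_singleton_iff]
              have hyj : y ∈ Subgroup.centralizer (N j : Set X) := Subgroup.mem_iInf.mp hy.2 j
              have heN : e ∈ Subgroup.normalizer (N j : Set X) := by
                by_cases hji : j = i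
                · exact hji ▸ hEnorm i he
                · exact Subgroup.centralizer_le_normalizer _ (hcross' j i hji he)
              have hw' : e⁻¹ * w * e ∈ N j := (Subgroup.mem_normalizer_iff''.mp heN w).mp hw
              have h1 := Subgroup.mem_centralizer_iff.mp hyj _ hw'
              have h2 := Subgroup.mem_centralizer_iff.mp hyj _ hw
              calc w * (e * y * e⁻¹ * y⁻¹) = e * ((e⁻¹ * w * e) * y) * e⁻¹ * y⁻¹ := by group
                _ = e * (y * (e⁻¹ * w * e)) * e⁻¹ * y⁻¹ := by rw [h1]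
                _ = e * y * e⁻¹ * (w * y⁻¹) := by group
                _ = e * y * e⁻¹ * (y⁻¹ * w) := by rw [(Commute.inv_right h2).eq]
                _ = _ := by group
          exact Subgroup.mem_centralizer_singleton_iff.mp (hle (hgen'.ge hv))
        have hKn : (R ⊔ C).Normal := by
          refine Subgroup.normalizer_eq_top_iff.mp (top_le_iff.mp (htop'.ge.trans (sup_le (iSup_le fun i => ?_) ?_)))
          · intro e he
            refine mem_normalizer_iff_conjOf.mpr (Subgroup.eq_of_le_of_card_ge ?_ (card_conjOf _ _).ge)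
            show Subgroup.map _ (R ⊔ C) ≤ _
            rw [Subgroup.map_sup]
            refine sup_le (conjOf_le_iff.mpr fun y hy => ?_)
              ((conjOf_le_iff.mpr fun y hy => hCn.conj_mem y hy e).trans le_sup_right)
            have h1 := mul_mem (Subgroup.mem_sup_right (S := R) (key i e he y hy))
              (Subgroup.mem_sup_left (T := C) hy)
            simpa using h1
          · intro t ht
            refine mem_normalizer_iff_conjOf.mpr (Subgroup.eq_of_le_of_card_ge ?_ (card_conjOf _ _).ge)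
            show Subgroup.map _ (R ⊔ C) ≤ _
            rw [Subgroup.map_sup]
            refine sup_le (conjOf_le_iff.mpr fun y hy => Subgroup.mem_sup_left (Subgroup.mem_inf.mpr ⟨?_, ?_⟩))
              ((conjOf_le_iff.mpr fun y hy => hCn.conj_mem y hy t).trans le_sup_right)
            · exact mul_mem (mul_mem ht hy.1) (inv_mem ht)
            · refine Subgroup.mem_iInf.mpr fun j => Subgroup.mem_centralizer_iff.mpr fun w hw => ?_
              obtain ⟨k, -, hk⟩ := hperm' t⁻¹ (inv_mem ht) j
              have hw' : t⁻¹ * w * t ∈ N k := by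
                have h0 := hk.le (conj_mem_conjOf (g := t⁻¹) hw)
                simpa using h0
              have h1 := Subgroup.mem_centralizer_iff.mp (Subgroup.mem_iInf.mp hy.2 k) _ hw'
              calc w * (t * y * t⁻¹) = t * (t⁻¹ * w * t * y) * t⁻¹ := by group
                _ = t * (y * (t⁻¹ * w * t)) * t⁻¹ := by rw [h1]
                _ = _ := by group
        have h2 : R ≤ pCore p X := le_trans (le_inf inf_le_left le_sup_left)
          (h.inf_le_pCore (H := R ⊔ C) (sup_le (inf_le_left.trans h.T_le) h.centralizer_vMod_le))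
        exact h.pCore_le_centralizer_vMod (h2 ⟨hx, Subgroup.mem_iInf.mpr hxN⟩) }

end Core

end CfsgLib.TwoSubgroup16
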