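import Cfsg.Agent.TwoSubgroup16.Decomp
import Cfsg.Agent.TwoSubgroup16.Inner
import Cfsg.Agent.TwoSubgroup16.SectionKer

/-!
The members of `𝒜(T)`, the normal closure `W` of `Ω₁(Z(J(T)))`, and its structure.
-/

set_option autoImplicit false

open Cfsg
open CfsgLib.ConjFunctor (conjOf conjOf_conjOf conjOf_one card_conjOf conjOf_mono conj_mem_conjOf mem_normalizer_iff_conjOf conjOf_le_iff mem_conjOf)
open CfsgLib.MinParFF (card_sup_mul_inf)
open CfsgLib.LocalP (maxElemIn)

namespace CfsgLib.TwoSubgroup16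

variable {X : Type*} [Group X] {p : ℕ}

/-- The normal closure of `Ω₁(Z(J(T)))`. -/
def wMod (p : ℕ) (T : Subgroup X) : Subgroup X := Subgroup.normalClosure (zThompson p T : Set X)

instance wMod_normal (p : ℕ) (T : Subgroup X) : (wMod p T).Normal := Subgroup.normalClosure_normal

theorem le_thompson {T A : Subgroup X} (hA : A ∈ maxElemIn p T) : A ≤ thompsonSubgroupOf p T :=
  (le_sSup hA).trans (CfsgLib.LocalP.thompsonSubgroupOf_eq_sSup T).ge

theorem normalizer_le_thompson_normalizer (T : Subgroup X) :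
    T ≤ Subgroup.normalizer (thompsonSubgroupOf p T : Set X) :=
  Subgroup.le_normalizer.trans (charIn_thompson T).normalizer_le

variable [Finite X] [Fact p.Prime] {T : Sylow p X} {M : Subgroup X}
  {r : ℕ} {E N : Fin r → Subgroup X}

theorem Blocks.iSup_normal {V : Subgroup X} (D : Blocks p V (T : Subgroup X) E N) :
    (⨆ i, E i).Normal ∧ (⨆ i, N i).Normal := by
  constructor
  · refine Subgroup.normalizer_eq_top_iff.mp (top_le_iff.mp (D.top.ge.trans (sup_le Subgroup.le_normalizer ?_)))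
    intro t ht
    refine mem_normalizer_iff_conjOf.mpr (Subgroup.eq_of_le_of_card_ge ?_ (card_conjOf _ _).ge)
    simp only [conjOf, Subgroup.map_iSup]
    refine iSup_le fun i => ?_
    obtain ⟨j, hj, -⟩ := D.perm t ht i
    exact hj.le.trans (le_iSup E j)
  · refine Subgroup.normalizer_eq_top_iff.mp (top_le_iff.mp (D.top.ge.trans (sup_le ?_ ?_))) <;> intro t ht <;>
      refine mem_normalizer_iff_conjOf.mpr (Subgroup.eq_of_le_of_card_ge ?_ (card_conjOf _ _).ge) <;>
      simp only [conjOf, Subgroup.map_iSup] <;> refine iSup_le fun i => ?_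
    · exact (mem_normalizer_iff_conjOf.mp (D.iSup_E_le_normalizer i ht)).le.trans (le_iSup N i)
    · obtain ⟨j, -, hj⟩ := D.perm t ht i
      exact hj.le.trans (le_iSup N j)

namespace Core

variable (h : Core p T M)

include h

/-- `(A ∩ C(V))V` is again in `𝒜(T)`, inside the core. -/
theorem replace_mem (D : Blocks p (vMod p (T : Subgroup X)) (T : Subgroup X) E N) {A : Subgroup X}
    (hA : A ∈ maxElemIn p (T : Subgroup X)) :
    (A ⊓ Subgroup.centralizer (vMod p (T : Subgroup X) : Set X)) ⊔ vMod p (T : Subgroup X) ∈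
        maxElemIn p (T : Subgroup X) ∧
      (A ⊓ Subgroup.centralizer (vMod p (T : Subgroup X) : Set X)) ⊔ vMod p (T : Subgroup X) ≤ pCore p X := by
  set V := vMod p (T : Subgroup X)
  set B := A ⊓ Subgroup.centralizer (V : Set X)
  have hAC : B ≤ pCore p X := le_trans (inf_le_inf_right _ hA.1) h.inf_centralizer_vMod.le
  have hle : B ⊔ V ≤ pCore p X := sup_le hAC fun v hv => (h.mem_vMod hv).1
  have hel : IsElementaryAbelian p (B ⊔ V) :=
    CfsgLib.LocalP.isElementaryAbelian_sup (CfsgLib.LocalP.isElementaryAbelian_mono hA.2.1 inf_le_left) h.vMod_el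
      fun b hb v hv => (Subgroup.mem_centralizer_iff.mp hb.2 v hv).symm
  refine ⟨⟨hle.trans h.pCore_le_T, hel, fun C hC hCel => (hA.2.2 C hC hCel).trans ?_⟩, hle⟩
  obtain ⟨heq, -, -⟩ := D.offender_structure hA.1
    (CfsgLib.LocalP.isElementaryAbelian_iff.mp hA.2.1).1 (h.card_le_of_maxElemIn hA)
  have hBV : B ⊓ V = V ⊓ Subgroup.centralizer (A : Set X) := by
    rw [← h.inf_vMod_eq hA]
    refine le_antisymm (le_inf inf_le_right (inf_le_left.trans inf_le_left))
      (le_inf (le_inf inf_le_right ?_) inf_le_left)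
    exact inf_le_left.trans (fun v hv => h.pCore_le_centralizer_vMod (h.mem_vMod hv).1)
  have h1 := card_sup_mul_inf (A := B) (B := V) (fun v hv => by
    rw [Subgroup.mem_normalizer_iff]
    intro b
    constructor
    · intro hb
      rwa [Subgroup.mem_centralizer_iff.mp hb.2 v hv, mul_inv_cancel_right]
    · intro hb
      have h2 := Subgroup.mem_centralizer_iff.mp hb.2 v hv
      have h3 : b = v * b * v⁻¹ := by
        calc b = v⁻¹ * (v * b * v⁻¹ * v) := by group
          _ = v⁻¹ * (v * (v * b * v⁻¹)) := by rw [h2]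
          _ = _ := by group
      rw [h3]; exact hb)
  rw [hBV, mul_comm (Nat.card B), heq] at h1
  exact (Nat.eq_of_mul_eq_mul_right Nat.card_pos h1).ge

theorem zThompson_le_mem {A : Subgroup X} (hA : A ∈ maxElemIn p (T : Subgroup X)) :
    zThompson p (T : Subgroup X) ≤ A := fun z hz => by
  obtain ⟨hzJ, hzc, hzp⟩ := mem_zThompson_iff.mp hz
  exact CfsgLib.LocalP.mem_of_centralizes hA (CfsgLib.LocalP.thompsonSubgroupOf_le _ hzJ) hzp
    fun a ha => Subgroup.mem_centralizer_iff.mp hzc a (le_thompson hA ha)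

theorem mem_zThompson_of_centralizes {x : X} (hxT : x ∈ (T : Subgroup X)) (hxp : x ^ p = 1)
    (hx : x ∈ Subgroup.centralizer (thompsonSubgroupOf p (T : Subgroup X) : Set X)) :
    x ∈ zThompson p (T : Subgroup X) := by
  obtain ⟨A, hA⟩ := CfsgLib.LocalP.exists_maxElemIn (p := p) (T : Subgroup X)
  exact mem_zThompson_iff.mpr ⟨le_thompson hA (CfsgLib.LocalP.mem_of_centralizes hA hxT hxp
    fun a ha => Subgroup.mem_centralizer_iff.mp hx a (le_thompson hA ha)), hx, hxp⟩

theorem zOne_le_zThompson : zOne p (T : Subgroup X) ≤ zThompson p (T : Subgroup X) := fun z hz => by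
  obtain ⟨hzT, hzc, hzp⟩ := mem_zOne_iff.mp hz
  exact h.mem_zThompson_of_centralizes hzT hzp
    (Subgroup.centralizer_le (CfsgLib.LocalP.thompsonSubgroupOf_le _) hzc)

theorem vMod_le_wMod : vMod p (T : Subgroup X) ≤ wMod p (T : Subgroup X) :=
  Subgroup.normalClosure_mono h.zOne_le_zThompson

/-- Every member of `𝒜(T)` inside the core contains `W`. -/
theorem wMod_le (D : Blocks p (vMod p (T : Subgroup X)) (T : Subgroup X) E N) {A : Subgroup X}
    (hA : A ∈ maxElemIn p (T : Subgroup X)) (hAQ : A ≤ pCore p X) : wMod p (T : Subgroup X) ≤ A := by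
  suffices key : ∀ x ∈ wMod p (T : Subgroup X), ∀ B ∈ maxElemIn p (T : Subgroup X), B ≤ pCore p X → x ∈ B from
    fun x hx => key x hx A hA hAQ
  intro x hx
  induction hx using Subgroup.closure_induction with
  | mem x hx =>
    rw [Group.mem_conjugatesOfSet_iff] at hx
    obtain ⟨z, hz, hzx⟩ := hx
    obtain ⟨g, rfl⟩ := isConj_iff.mp hzx
    intro B hB hBQ
    haveI := CfsgLib.ConjFunctor.pCore_normal (G := X) p
    have hB' : conjOf g⁻¹ B ∈ maxElemIn p (T : Subgroup X) := by
      refine ⟨le_trans (conjOf_le_iff.mpr fun y hy => ?_) h.pCore_le_T,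
        CfsgLib.LocalP.isElementaryAbelian_map _ hB.2.1, fun C hC hCel => ?_⟩
      · exact Subgroup.Normal.conj_mem inferInstance y (hBQ hy) g⁻¹
      · rw [card_conjOf]; exact hB.2.2 C hC hCel
    have h1 := h.zThompson_le_mem hB' hz
    rw [mem_conjOf, inv_inv] at h1
    exact h1
  | one => exact fun B _ _ => one_mem B
  | mul a b _ _ ha hb => exact fun B hB hBQ => mul_mem (ha B hB hBQ) (hb B hB hBQ)
  | inv a _ ha => exact fun B hB hBQ => inv_mem (ha B hB hBQ)

theorem exists_mem_pCore (D : Blocks p (vMod p (T : Subgroup X)) (T : Subgroup X) E N) :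
    ∃ A ∈ maxElemIn p (T : Subgroup X), A ≤ pCore p X := by
  obtain ⟨A, hA⟩ := CfsgLib.LocalP.exists_maxElemIn (p := p) (T : Subgroup X)
  exact ⟨_, h.replace_mem D hA⟩

theorem wMod_le_pCore (D : Blocks p (vMod p (T : Subgroup X)) (T : Subgroup X) E N) :
    wMod p (T : Subgroup X) ≤ pCore p X := by
  obtain ⟨A, hA, hAQ⟩ := h.exists_mem_pCore D
  exact (h.wMod_le D hA hAQ).trans hAQ

theorem wMod_el (D : Blocks p (vMod p (T : Subgroup X)) (T : Subgroup X) E N) :
    IsElementaryAbelian p (wMod p (T : Subgroup X)) := by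
  obtain ⟨A, hA, hAQ⟩ := h.exists_mem_pCore D
  exact CfsgLib.LocalP.isElementaryAbelian_mono hA.2.1 (h.wMod_le D hA hAQ)

/-- `W = V·C_W(A)`. -/
theorem wMod_le_sup (D : Blocks p (vMod p (T : Subgroup X)) (T : Subgroup X) E N) {A : Subgroup X}
    (hA : A ∈ maxElemIn p (T : Subgroup X)) :
    wMod p (T : Subgroup X) ≤ vMod p (T : Subgroup X) ⊔ (wMod p (T : Subgroup X) ⊓ A) := by
  set V := vMod p (T : Subgroup X)
  set W := wMod p (T : Subgroup X)
  have hab := (CfsgLib.LocalP.isElementaryAbelian_iff.mp hA.2.1).1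
  obtain ⟨heq, -, -⟩ := D.offender_structure hA.1 hab (h.card_le_of_maxElemIn hA)
  set B := A ⊓ Subgroup.centralizer (V : Set X)
  obtain ⟨hA', hA'Q⟩ := h.replace_mem D hA
  have hWA' := h.wMod_le D hA' hA'Q
  have hWel := h.wMod_el D
  have hab' := (CfsgLib.LocalP.isElementaryAbelian_iff.mp hA'.2.1).1
  have hBW : ∀ b ∈ B, ∀ w ∈ W, b * w = w * b := fun b hb w hw =>
    hab' b (Subgroup.mem_sup_left hb) w (hWA' hw)
  have hel : IsElementaryAbelian p (B ⊔ W) :=
    CfsgLib.LocalP.isElementaryAbelian_sup (CfsgLib.LocalP.isElementaryAbelian_mono hA.2.1 inf_le_left) hWel hBW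
  have h1 := hA.2.2 _ (sup_le (inf_le_left.trans hA.1) ((h.wMod_le_pCore D).trans h.pCore_le_T)) hel
  have h2 := CfsgLib.LocalP.card_mul_le_card_sup_mul_card_inf B W
  have h3 : B ⊓ W ≤ W ⊓ A := le_inf inf_le_right (inf_le_left.trans inf_le_left)
  have h4 : Nat.card B * Nat.card W ≤ Nat.card A * Nat.card ↥(W ⊓ A) :=
    h2.trans (Nat.mul_le_mul h1 (Subgroup.card_le_of_le h3))
  have hVW := h.vMod_le_wMod
  haveI := hWel.1
  have h5 := card_sup_mul_inf (A := V) (B := W ⊓ A)
    (CfsgLib.MinParFF.normalizes_of_comm (V := W) hVW inf_le_left)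
  have h6 : V ⊓ (W ⊓ A) = V ⊓ Subgroup.centralizer (A : Set X) := by
    rw [← inf_assoc, inf_eq_left.mpr hVW, h.inf_vMod_eq hA]
  rw [h6] at h5
  refine (Subgroup.eq_of_le_of_card_ge (sup_le hVW inf_le_left) ?_).ge
  refine Nat.le_of_mul_le_mul_right ?_
    (Nat.mul_pos (Nat.card_pos : 0 < Nat.card B) (Nat.card_pos : 0 < Nat.card ↥(V ⊓ Subgroup.centralizer (A : Set X))))
  calc Nat.card W * (Nat.card B * Nat.card ↥(V ⊓ Subgroup.centralizer (A : Set X)))
      = (Nat.card B * Nat.card W) * Nat.card ↥(V ⊓ Subgroup.centralizer (A : Set X)) := by ring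
    _ ≤ (Nat.card A * Nat.card ↥(W ⊓ A)) * Nat.card ↥(V ⊓ Subgroup.centralizer (A : Set X)) :=
        Nat.mul_le_mul_right _ h4
    _ = (Nat.card V * Nat.card B) * Nat.card ↥(W ⊓ A) := by rw [heq]; ring
    _ = (Nat.card V * Nat.card ↥(W ⊓ A)) * Nat.card B := by ring
    _ = (Nat.card ↥(V ⊔ W ⊓ A) * Nat.card ↥(V ⊓ Subgroup.centralizer (A : Set X))) * Nat.card B := by rw [h5]
    _ = _ := by ring

end Core

end CfsgLib.TwoSubgroup16
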